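import Mathlib
import Groth.Prelude.Def_W4c5qllcourbesmultMultCrv

/-!
# Modules over `R[X]/(X^n)`
-/

set_option autoImplicit false
universe u

open Polynomial MultCrv CategoryTheory CategoryTheory.Abelian

namespace Groth.Agent.MultCrvLib

variable {R : Type u} [CommRing R] {n : ℕ}

theorem z_pow_n : z R n ^ n = 0 := by
  rw [← map_pow]
  exact Ideal.Quotient.eq_zero_iff_mem.mpr (Ideal.mem_span_singleton_self _)

theorem z_pow_eq_zero {k : ℕ} (h : n ≤ k) : z R n ^ k = 0 := by
  rw [← Nat.sub_add_cancel h, pow_add, z_pow_n, mul_zero]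

theorem z_pow_smul {M : Type u} [AddCommGroup M] [Module (Rn R n) M] {k : ℕ} (h : n ≤ k) (m : M) :
    z R n ^ k • m = 0 := by
  rw [z_pow_eq_zero h]
  exact zero_smul (Rn R n) m

theorem z_pow_n_smul {M : Type u} [AddCommGroup M] [Module (Rn R n) M] (m : M) :
    z R n ^ n • m = 0 := z_pow_smul le_rfl m

/-- The last coefficient. -/
noncomputable def top : Rn R n →ₗ[R] R :=
  Submodule.liftQ ((Ideal.span {(X : R[X]) ^ n}).restrictScalars R)
    (if n = 0 then 0 else Polynomial.lcoeff R (n - 1))
    (fun p hp => by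
      obtain ⟨q, rfl⟩ := Ideal.mem_span_singleton'.mp hp
      rw [LinearMap.mem_ker]
      split_ifs with h
      · rfl
      · rw [Polynomial.lcoeff_apply, Polynomial.coeff_mul_X_pow', if_neg (by omega)])

theorem top_z_pow (k : ℕ) : top (z R n ^ k) = if k + 1 = n then 1 else 0 := by
  rw [← map_pow]
  show (if n = 0 then 0 else Polynomial.lcoeff R (n - 1)) (X ^ k) = _
  rcases Nat.eq_zero_or_pos n with h | h
  · rw [if_pos h, if_neg (by omega)]; rfl
  · rw [if_neg h.ne', Polynomial.lcoeff_apply, Polynomial.coeff_X_pow]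
    simp only [show (n - 1 = k ↔ k + 1 = n) by omega]

theorem ext_pow {N : Type u} [AddCommGroup N] [Module R N] {f g : Rn R n →ₗ[R] N}
    (h : ∀ k, f (z R n ^ k) = g (z R n ^ k)) : f = g := by
  refine LinearMap.ext fun a => ?_
  obtain ⟨p, rfl⟩ := Ideal.Quotient.mk_surjective a
  induction p using Polynomial.induction_on' with
  | add p q hp hq => simp only [map_add, hp, hq]
  | monomial k c =>
    rw [show Ideal.Quotient.mk _ (monomial k c) = c • z R n ^ k by
      rw [← map_pow, ← Polynomial.smul_X_eq_monomial]; rfl]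
    simp only [map_smul, h k]

theorem recover (a : Rn R n) :
    ∑ j ∈ Finset.range n, top (z R n ^ (n - 1 - j) * a) • z R n ^ j = a := by
  have := congrArg (fun L : Rn R n →ₗ[R] Rn R n => L a) (ext_pow
    (f := ∑ j ∈ Finset.range n, (LinearMap.toSpanSingleton R (Rn R n) (z R n ^ j)).comp
      (top.comp (LinearMap.mulLeft R (z R n ^ (n - 1 - j))))) (g := LinearMap.id) fun k => by
      simp only [LinearMap.coe_sum, Finset.sum_apply, LinearMap.comp_apply, LinearMap.mulLeft_apply,
        LinearMap.toSpanSingleton_apply, LinearMap.id_apply, ← pow_add, top_z_pow]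
      rcases lt_or_ge k n with h | h
      · rw [Finset.sum_eq_single k (fun j hj hne => by
          rw [if_neg (by have := Finset.mem_range.mp hj; omega), zero_smul])
          (fun h' => absurd (Finset.mem_range.mpr h) h'), if_pos (by omega), one_smul]
      · rw [z_pow_eq_zero h]
        exact Finset.sum_eq_zero fun j hj => by
          rw [if_neg (by have := Finset.mem_range.mp hj; omega), zero_smul])
  simpa only [LinearMap.coe_sum, Finset.sum_apply, LinearMap.comp_apply, LinearMap.mulLeft_apply,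
    LinearMap.toSpanSingleton_apply, LinearMap.id_apply] using this

instance finite_Rn : Module.Finite R (Rn R n) :=
  Module.Finite.of_surjective (Fintype.linearCombination R fun j : Fin n => z R n ^ (j : ℕ)) fun a =>
    ⟨fun j => top (z R n ^ (n - 1 - j.1) * a), by
      rw [Fintype.linearCombination_apply, Fin.sum_univ_eq_sum_range fun j => top (z R n ^ (n - 1 - j) * a) • z R n ^ j]
      exact recover a⟩

section Modules

variable {M : Type u} [AddCommGroup M] [Module (Rn R n) M] [Module R M] [IsScalarTower R (Rn R n) M]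

theorem map_smul_of_comm {N : Type u} [AddCommGroup N] [Module (Rn R n) N] [Module R N] [IsScalarTower R (Rn R n) N]
    (f : M →ₗ[R] N) (h : ∀ m, f (z R n • m) = z R n • f m) (a : Rn R n) (m : M) : f (a • m) = a • f m := by
  obtain ⟨p, rfl⟩ := Ideal.Quotient.mk_surjective a
  induction p using Polynomial.induction_on' with
  | add p q hp hq => simp only [map_add, add_smul, hp, hq]
  | monomial k c =>
    rw [show Ideal.Quotient.mk _ (monomial k c) = c • z R n ^ k by
      rw [← map_pow, ← Polynomial.smul_X_eq_monomial]; rfl]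
    have hk : f (z R n ^ k • m) = z R n ^ k • f m := by
      clear c
      induction k with
      | zero => simp
      | succ k ih => rw [pow_succ', mul_smul, h, ih, mul_smul]
    rw [smul_assoc, smul_assoc, map_smul, hk]

theorem casimir {P : Type u} [AddCommMonoid P] (F : ℕ → P) (h0 : F 0 = 0) (hn : F n = 0) :
    ∑ j ∈ Finset.range n, F (j + 1) = ∑ j ∈ Finset.range n, F j := by
  have h1 := Finset.sum_range_succ F n
  rw [Finset.sum_range_succ' F n, h0, hn, add_zero, add_zero] at h1
  exact h1

/-- The form attached to a functional. -/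
noncomputable def toA (g : M →ₗ[R] R) : M →ₗ[Rn R n] Rn R n :=
  let f : M →ₗ[R] Rn R n :=
    { toFun := fun m => ∑ j ∈ Finset.range n, g (z R n ^ (n - 1 - j) • m) • z R n ^ j
      map_add' := fun a b => by simp only [smul_add, map_add, add_smul, Finset.sum_add_distrib]
      map_smul' := fun c a => by
        simp only [smul_comm _ c a, map_smul, smul_assoc, RingHom.id_apply, Finset.smul_sum] }
  { toFun := f
    map_add' := map_add f
    map_smul' := fun a m => map_smul_of_comm f (fun m => by
      show ∑ j ∈ Finset.range n, g (z R n ^ (n - 1 - j) • z R n • m) • z R n ^ j =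
        z R n • ∑ j ∈ Finset.range n, g (z R n ^ (n - 1 - j) • m) • z R n ^ j
      rw [Finset.smul_sum]
      refine Eq.trans ?_ (((casimir (n := n) (fun j => g (z R n ^ (n - j) • m) • z R n ^ j) ?_ ?_).symm).trans ?_)
      · refine Finset.sum_congr rfl fun j hj => ?_
        rw [smul_smul, ← pow_succ, show n - 1 - j + 1 = n - j by have := Finset.mem_range.mp hj; omega]
      · rw [Nat.sub_zero, z_pow_n_smul, map_zero, zero_smul]
      · rw [z_pow_n, smul_zero]
      · refine Finset.sum_congr rfl fun j _ => ?_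
        rw [smul_comm (z R n), smul_eq_mul, ← pow_succ', show n - (j + 1) = n - 1 - j by omega]) a m }

theorem toA_apply (g : M →ₗ[R] R) (m : M) :
    toA (n := n) g m = ∑ j ∈ Finset.range n, g (z R n ^ (n - 1 - j) • m) • z R n ^ j := rfl

theorem top_toA (hn : 1 ≤ n) (g : M →ₗ[R] R) (m : M) : top (toA (n := n) g m) = g m := by
  rw [toA_apply, map_sum, Finset.sum_eq_single (n - 1)]
  · rw [map_smul, top_z_pow, if_pos (by omega), Nat.sub_self, pow_zero, one_smul, smul_eq_mul, mul_one]
  · intro j hj hne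
    rw [map_smul, top_z_pow, if_neg (by omega), smul_zero]
  · intro h; exact absurd (Finset.mem_range.mpr (by omega)) h

theorem hom_ext_top {f f' : M →ₗ[Rn R n] Rn R n} (h : ∀ m, top (f m) = top (f' m)) : f = f' := by
  refine LinearMap.ext fun m => ?_
  rw [← recover (f m), ← recover (f' m)]
  refine Finset.sum_congr rfl fun j _ => ?_
  rw [← smul_eq_mul, ← map_smul, h, map_smul, smul_eq_mul]

theorem finite_R [Module.Finite (Rn R n) M] : Module.Finite R M := Module.Finite.trans (Rn R n) M

theorem filt_mem {i : ℕ} {x : M} : x ∈ filt R n M i ↔ ∃ y, z R n ^ i • y = x := Iff.rfl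

theorem filt2_mem {i : ℕ} {x : M} : x ∈ filt2 R n M i ↔ z R n ^ i • x = 0 :=
  Submodule.mem_torsionBy_iff _ _

variable [IsDomain R]

theorem isTorsionFree_iff {P : Type u} [AddCommGroup P] [Module R P] :
    Module.IsTorsionFree R P ↔ ∀ (r : R) (x : P), r • x = 0 → r = 0 ∨ x = 0 :=
  ⟨fun _ _ _ h => smul_eq_zero.mp h, Module.IsTorsionFree.of_smul_eq_zero⟩

theorem tf_Rn : Module.IsTorsionFree R (Rn R n) := by
  rw [isTorsionFree_iff]
  intro r a h
  rcases eq_or_ne r 0 with hr | hr
  · exact Or.inl hr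
  refine Or.inr ?_
  rw [← recover a]
  refine Finset.sum_eq_zero fun j _ => ?_
  have h2 : r * top (z R n ^ (n - 1 - j) * a) = 0 := by
    rw [← smul_eq_mul, ← map_smul, ← mul_smul_comm, h, mul_zero, map_zero]
  rw [(mul_eq_zero.mp h2).resolve_left hr, zero_smul]

variable [IsDiscreteValuationRing R]

theorem tf_iff_free_ker (hn : 1 ≤ n) [Module.Finite (Rn R n) M] :
    Module.IsTorsionFree R M ↔ Module.Free R ↥(filt2 R n M 1) := by
  haveI := finite_R (R := R) (n := n) (M := M)
  haveI : IsNoetherian R M := isNoetherian_of_isNoetherianRing_of_finite R M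
  haveI : Module.Finite R ↥(filt2 R n M 1) :=
    Module.Finite.of_injective ((filt2 R n M 1).subtype.restrictScalars R) Subtype.val_injective
  constructor
  · intro h
    haveI : Module.IsTorsionFree R ↥(filt2 R n M 1) := isTorsionFree_iff.mpr fun r x hx =>
      ((isTorsionFree_iff.mp h) r x.1 (congrArg Subtype.val hx)).imp_right Subtype.ext
    exact Module.free_of_finite_type_torsion_free'
  · intro h
    rw [isTorsionFree_iff]
    intro r m hrm
    rcases eq_or_ne r 0 with hr | hr
    · exact Or.inl hr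
    refine Or.inr (by_contra fun hm => ?_)
    classical
    have hex : ∃ k, z R n ^ k • m = 0 := ⟨n, z_pow_n_smul m⟩
    obtain ⟨k, hk⟩ : ∃ k, Nat.find hex = k + 1 := Nat.exists_eq_succ_of_ne_zero fun h0 => hm (by
      simpa [h0] using Nat.find_spec hex)
    have h1 := Nat.find_spec hex
    have h2 := Nat.find_min hex (m := k) (by omega)
    let x : ↥(filt2 R n M 1) := ⟨z R n ^ k • m, filt2_mem.mpr (by rw [smul_smul, ← pow_add, add_comm, ← hk]; exact h1)⟩
    have hx : r • x = 0 := Subtype.ext (by
      show r • z R n ^ k • m = 0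
      rw [smul_comm, hrm, smul_zero])
    exact h2 (congrArg Subtype.val ((smul_eq_zero.mp hx).resolve_left hr))

theorem free_G2 [Module.Finite (Rn R n) M] [Module.IsTorsionFree R M] (i : ℕ) :
    Module.Free R (G2 R n M i) := by
  haveI := finite_R (R := R) (n := n) (M := M)
  haveI : IsNoetherian R M := isNoetherian_of_isNoetherianRing_of_finite R M
  haveI : Module.Finite R ↥(filt2 R n M i) :=
    Module.Finite.of_injective ((filt2 R n M i).subtype.restrictScalars R) Subtype.val_injective
  haveI : Module.Finite R (G2 R n M i) :=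
    Module.Finite.of_surjective ((Submodule.mkQ _).restrictScalars R) (Submodule.mkQ_surjective _)
  haveI : Module.IsTorsionFree R (G2 R n M i) := isTorsionFree_iff.mpr fun r x hx => by
    obtain ⟨u, rfl⟩ := Submodule.Quotient.mk_surjective _ x
    rw [← Submodule.Quotient.mk_smul, Submodule.Quotient.mk_eq_zero, Submodule.mem_comap, Submodule.subtype_apply,
      Submodule.coe_smul_of_tower, filt2_mem, smul_comm] at hx
    refine (smul_eq_zero.mp hx).imp_right fun h => ?_
    rw [Submodule.Quotient.mk_eq_zero, Submodule.mem_comap, Submodule.subtype_apply, filt2_mem]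
    exact h
  exact Module.free_of_finite_type_torsion_free'

theorem finrank_quot_comap [Module.Finite (Rn R n) M] {P Q : Submodule (Rn R n) M} (h : P ≤ Q) :
    Module.finrank R (↥Q ⧸ P.comap Q.subtype) + Module.finrank R ↥P = Module.finrank R ↥Q := by
  haveI := finite_R (R := R) (n := n) (M := M)
  haveI : IsNoetherian R M := isNoetherian_of_isNoetherianRing_of_finite R M
  haveI : Module.Finite R ↥Q := Module.Finite.of_injective (Q.subtype.restrictScalars R) Subtype.val_injective
  have h1 := Submodule.finrank_quotient_add_finrank ((P.comap Q.subtype).restrictScalars R)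
  rw [(Submodule.Quotient.restrictScalarsEquiv R (P.comap Q.subtype)).finrank_eq] at h1
  have h2 : Module.finrank R ↥((P.comap Q.subtype).restrictScalars R) = Module.finrank R ↥P :=
    ((Submodule.comapSubtypeEquivOfLe h).restrictScalars R).finrank_eq
  rwa [h2] at h1

theorem finrank_filt_add [Module.Finite (Rn R n) M] (i : ℕ) :
    Module.finrank R ↥(filt R n M i) + Module.finrank R ↥(filt2 R n M i) = Module.finrank R M := by
  haveI := finite_R (R := R) (n := n) (M := M)
  let f : M →ₗ[R] M := ((z R n ^ i) • (LinearMap.id : M →ₗ[Rn R n] M)).restrictScalars R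
  have h1 := Submodule.finrank_quotient_add_finrank (LinearMap.ker f)
  rw [f.quotKerEquivRange.finrank_eq] at h1
  convert h1 using 2
  · exact LinearEquiv.finrank_eq (LinearEquiv.refl R _)
  · exact LinearEquiv.finrank_eq (LinearEquiv.refl R _)

theorem finrank_G2 [Module.Finite (Rn R n) M] (i : ℕ) :
    Module.finrank R (G2 R n M (i + 1)) = Module.finrank R (G1 R n M i) := by
  have h1 := finrank_quot_comap (R := R) (n := n) (M := M) (P := filt2 R n M i) (Q := filt2 R n M (i + 1))
    (fun x hx => filt2_mem.mpr (by rw [pow_succ', mul_smul, filt2_mem.mp hx, smul_zero]))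
  have h2 := finrank_quot_comap (R := R) (n := n) (M := M) (P := filt R n M (i + 1)) (Q := filt R n M i)
    (fun x hx => by obtain ⟨y, rfl⟩ := filt_mem.mp hx; exact ⟨z R n • y, by show z R n ^ i • z R n • y = _; rw [smul_smul, ← pow_succ]⟩)
  have e1 := finrank_filt_add (R := R) (n := n) (M := M) i
  have e2 := finrank_filt_add (R := R) (n := n) (M := M) (i + 1)
  have h1' : Module.finrank R (G2 R n M (i + 1)) + Module.finrank R ↥(filt2 R n M i) =
      Module.finrank R ↥(filt2 R n M (i + 1)) := h1
  have h2' : Module.finrank R (G1 R n M i) + Module.finrank R ↥(filt R n M (i + 1)) =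
      Module.finrank R ↥(filt R n M i) := h2
  omega

theorem free_G1_iff_free_Gam2 (hn : 1 ≤ n) [Module.Finite (Rn R n) M] :
    (∀ i, i < n → Module.Free R (G1 R n M i)) ↔ (∀ i, i < n → Module.Free R (Gam2 R n M i)) := by
  haveI := finite_R (R := R) (n := n) (M := M)
  haveI : IsNoetherian R M := isNoetherian_of_isNoetherianRing_of_finite R M
  have hmem : ∀ i (u : M), z R n ^ i • u ∈ filt R n M i := fun i u => ⟨u, rfl⟩
  let a0 : ∀ i, ↥(filt2 R n M (i + 1)) →ₗ[Rn R n] G1 R n M i := fun i =>
    (Submodule.mkQ _).comp (((z R n ^ i) • (LinearMap.id : M →ₗ[Rn R n] M)).comp (filt2 R n M (i + 1)).subtype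
      |>.codRestrict (filt R n M i) fun u => hmem i _)
  have ha0 : ∀ i u, a0 i u = 0 ↔ z R n ^ i • (u : M) ∈ filt R n M (i + 1) := fun i u => by
    show Submodule.Quotient.mk _ = 0 ↔ _
    rw [Submodule.Quotient.mk_eq_zero]
    rfl
  let a1 : ∀ i, G2 R n M (i + 1) →ₗ[Rn R n] G1 R n M i := fun i => Submodule.liftQ _ (a0 i) fun u hu => by
    rw [LinearMap.mem_ker, ha0]
    have : z R n ^ i • (u : M) = 0 := filt2_mem.mp hu
    rw [this]; exact zero_mem _
  let a : ∀ i, Gam2 R n M i →ₗ[Rn R n] G1 R n M i := fun i => Submodule.liftQ _ (a1 i) fun x hx => by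
    obtain ⟨y, rfl⟩ := hx
    obtain ⟨v, rfl⟩ := Submodule.Quotient.mk_surjective _ y
    rw [LinearMap.mem_ker]
    show a0 i (zDown R n M (i + 1) v) = 0
    rw [ha0]
    show z R n ^ i • z R n • (v : M) ∈ _
    rw [smul_smul, ← pow_succ]
    exact hmem _ _
  have hainj : ∀ i, Function.Injective (a i) := fun i => by
    rw [← LinearMap.ker_eq_bot, LinearMap.ker_eq_bot']
    intro x hx
    obtain ⟨y, rfl⟩ := Submodule.Quotient.mk_surjective _ x
    obtain ⟨u, rfl⟩ := Submodule.Quotient.mk_surjective _ y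
    obtain ⟨w, hw⟩ := (ha0 i u).mp hx
    have hw' : z R n ^ (i + 1) • w = z R n ^ i • (u : M) := hw
    have hwmem : w ∈ filt2 R n M (i + 2) := filt2_mem.mpr (by
      rw [pow_succ' _ (i + 1), mul_smul, hw', smul_smul, ← pow_succ']
      exact filt2_mem.mp u.2)
    rw [Submodule.Quotient.mk_eq_zero]
    refine ⟨Submodule.Quotient.mk ⟨w, hwmem⟩, ?_⟩
    show Submodule.Quotient.mk (zDown R n M (i + 1) ⟨w, hwmem⟩) = _
    rw [Submodule.Quotient.eq, Submodule.mem_comap]
    show z R n • w - (u : M) ∈ filt2 R n M i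
    rw [filt2_mem, smul_sub, smul_smul, ← pow_succ, hw', sub_self]
  let b0 : ∀ i, ↥(filt R n M i) →ₗ[Rn R n] G1 R n M (i + 1) := fun i =>
    (Submodule.mkQ _).comp ((z R n • (LinearMap.id : M →ₗ[Rn R n] M)).comp (filt R n M i).subtype
      |>.codRestrict (filt R n M (i + 1)) fun u => by
        obtain ⟨y, hy⟩ := filt_mem.mp u.2
        exact ⟨y, by show _ = z R n • (u : M); rw [← hy, smul_smul, ← pow_succ']; rfl⟩)
  let b : ∀ i, G1 R n M i →ₗ[Rn R n] G1 R n M (i + 1) := fun i => Submodule.liftQ _ (b0 i) fun u hu => by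
    obtain ⟨y, hy⟩ := filt_mem.mp hu
    rw [LinearMap.mem_ker]
    show Submodule.Quotient.mk _ = 0
    rw [Submodule.Quotient.mk_eq_zero]
    exact ⟨y, by show _ = z R n • (u : M); rw [← show z R n ^ (i + 1) • y = (u : M) from hy, smul_smul, ← pow_succ']; rfl⟩
  have hbker : ∀ i x, b i x = 0 → x ∈ LinearMap.range (a i) := fun i x hx => by
    obtain ⟨⟨v, hv⟩, rfl⟩ := Submodule.Quotient.mk_surjective _ x
    obtain ⟨y, rfl⟩ := filt_mem.mp hv
    have hx' := (Submodule.Quotient.mk_eq_zero _).mp hx
    obtain ⟨w, hw⟩ := filt_mem.mp (Submodule.mem_comap.mp hx')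
    have hw' : z R n ^ (i + 1 + 1) • w = z R n • z R n ^ i • y := hw
    refine ⟨Submodule.Quotient.mk (Submodule.Quotient.mk ⟨y - z R n • w, filt2_mem.mpr ?_⟩), ?_⟩
    · rw [smul_sub, smul_smul, ← pow_succ, hw', smul_smul, ← pow_succ', sub_self]
    · show Submodule.Quotient.mk _ = Submodule.Quotient.mk _
      rw [Submodule.Quotient.eq, Submodule.mem_comap]
      show z R n ^ i • (y - z R n • w) - z R n ^ i • y ∈ filt R n M (i + 1)
      rw [smul_sub, sub_sub_cancel_left, smul_smul, ← pow_succ]
      exact neg_mem (hmem _ _)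
  haveI : ∀ i, Module.Finite R ↥(filt R n M i) := fun i =>
    Module.Finite.of_injective ((filt R n M i).subtype.restrictScalars R) Subtype.val_injective
  haveI : ∀ i, Module.Finite R (G1 R n M i) := fun i =>
    Module.Finite.of_surjective ((Submodule.mkQ _).restrictScalars R) (Submodule.mkQ_surjective _)
  haveI : ∀ i, IsNoetherian R (G1 R n M i) := fun i => isNoetherian_of_isNoetherianRing_of_finite R _
  constructor
  · intro h i hi
    haveI := h i hi
    haveI : Module.Finite R (Gam2 R n M i) := Module.Finite.of_injective ((a i).restrictScalars R) (hainj i)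
    haveI : Module.IsTorsionFree R (Gam2 R n M i) := isTorsionFree_iff.mpr fun r x hx => by
      have : r • a i x = 0 := by rw [← LinearMap.map_smul_of_tower, hx, map_zero]
      exact (smul_eq_zero.mp this).imp_right fun h' => hainj i (h'.trans (map_zero _).symm)
    exact Module.free_of_finite_type_torsion_free'
  · intro h
    suffices ∀ k i, n ≤ i + k → Module.IsTorsionFree R (G1 R n M i) from fun i hi => by
      haveI := this n i (by omega)
      exact Module.free_of_finite_type_torsion_free'
    intro k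
    induction k with
    | zero =>
      intro i hi
      refine isTorsionFree_iff.mpr fun r x _ => Or.inr ?_
      obtain ⟨⟨v, hv⟩, rfl⟩ := Submodule.Quotient.mk_surjective _ x
      obtain ⟨y, rfl⟩ := filt_mem.mp hv
      rw [Submodule.Quotient.mk_eq_zero, Submodule.mem_comap]
      show z R n ^ i • y ∈ filt R n M (i + 1)
      rw [z_pow_smul (by omega)]
      exact zero_mem _
    | succ k ih =>
      intro i hi
      rcases le_or_gt n (i + k) with hik | hik
      · exact ih i hik
      haveI := ih (i + 1) (by omega)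
      haveI := h i (by omega)
      refine isTorsionFree_iff.mpr fun r x hx => ?_
      rcases eq_or_ne r 0 with hr | hr
      · exact Or.inl hr
      refine Or.inr ?_
      have hbx : r • b i x = 0 := by rw [← LinearMap.map_smul_of_tower, hx, map_zero]
      obtain ⟨y, rfl⟩ := hbker i x ((smul_eq_zero.mp hbx).resolve_left hr)
      rw [← LinearMap.map_smul_of_tower] at hx
      rw [(smul_eq_zero.mp (hainj i (hx.trans (map_zero _).symm))).resolve_left hr, map_zero]

theorem dual_restrict_surjective (hn : 1 ≤ n) {M' M'' : Type u} [AddCommGroup M'] [Module (Rn R n) M']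
    [AddCommGroup M''] [Module (Rn R n) M''] [Module R M''] [IsScalarTower R (Rn R n) M'']
    [Module.Finite (Rn R n) M''] [Module.IsTorsionFree R M'']
    (f : M' →ₗ[Rn R n] M) (g : M →ₗ[Rn R n] M'') (hf : Function.Injective f) (hg : Function.Surjective g)
    (hfg : LinearMap.range f = LinearMap.ker g) :
    Function.Surjective (f.dualMap : Module.Dual (Rn R n) M →ₗ[Rn R n] Module.Dual (Rn R n) M') := by
  letI : Module R M' := Module.compHom M' (algebraMap R (Rn R n))
  haveI : IsScalarTower R (Rn R n) M' := ⟨fun r a x =>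
    (congrArg (fun b => b • x) (Algebra.smul_def r a)).trans (mul_smul (algebraMap R (Rn R n) r) a x)⟩
  haveI := finite_R (R := R) (n := n) (M := M'')
  haveI : Module.Free R M'' := Module.free_of_finite_type_torsion_free'
  obtain ⟨s, hs⟩ := Module.projective_lifting_property (g.restrictScalars R) LinearMap.id hg
  intro φ
  let p : M →ₗ[R] M := LinearMap.id - s.comp (g.restrictScalars R)
  have hp : ∀ m, p m ∈ LinearMap.range (f.restrictScalars R) := fun m => by
    have hm : p m ∈ LinearMap.ker g := by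
      rw [LinearMap.mem_ker]
      show g (m - s (g m)) = 0
      rw [map_sub, show g (s (g m)) = g m from LinearMap.congr_fun hs (g m), sub_self]
    rw [← hfg] at hm
    exact hm
  let r : M →ₗ[R] M' := (LinearEquiv.ofInjective (f.restrictScalars R) hf).symm.toLinearMap.comp (p.codRestrict _ hp)
  have hr : ∀ x, r (f x) = x := fun x => by
    apply (LinearEquiv.ofInjective (f.restrictScalars R) hf).injective
    rw [LinearMap.comp_apply, LinearEquiv.coe_coe, LinearEquiv.apply_symm_apply]
    refine Subtype.ext ?_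
    have : g (f x) = 0 := LinearMap.mem_ker.mp (hfg ▸ LinearMap.mem_range_self f x)
    show f x - s (g (f x)) = f x
    rw [this, map_zero, sub_zero]
  refine ⟨toA (top.comp ((φ.restrictScalars R).comp r)), hom_ext_top fun m => ?_⟩
  show top (toA _ (f m)) = _
  rw [top_toA hn, LinearMap.comp_apply, LinearMap.comp_apply, hr]
  rfl

theorem isReflexive_iff (hn : 1 ≤ n) [Module.Finite (Rn R n) M] :
    Module.IsReflexive (Rn R n) M ↔ Module.IsTorsionFree R M := by
  haveI := finite_R (R := R) (n := n) (M := M)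
  constructor
  · intro h
    haveI := tf_Rn (R := R) (n := n)
    refine isTorsionFree_iff.mpr fun r m hm => ?_
    rcases eq_or_ne r 0 with hr | hr
    · exact Or.inl hr
    refine Or.inr ((Module.bijective_dual_eval (Rn R n) M).1 (LinearMap.ext fun f => ?_))
    have h2 : r • f m = 0 := by rw [← LinearMap.map_smul_of_tower, hm, map_zero]
    rw [map_zero]
    exact (smul_eq_zero.mp h2).resolve_left hr
  · intro h
    haveI : Module.Free R M := Module.free_of_finite_type_torsion_free'
    refine ⟨⟨?_, ?_⟩⟩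
    · rw [← LinearMap.ker_eq_bot, LinearMap.ker_eq_bot']
      intro m hm
      rw [← Module.forall_dual_apply_eq_zero_iff R]
      intro g
      rw [← top_toA hn g m, show toA (n := n) g m = 0 from LinearMap.congr_fun hm (toA g), map_zero]
    · intro Φ
      let ξ : Module.Dual R (Module.Dual R M) :=
        { toFun := fun g => top (Φ (toA g))
          map_add' := fun g g' => by
            rw [show toA (n := n) (g + g') = toA g + toA g' from hom_ext_top fun x => by
              simp [top_toA hn], map_add, map_add]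
          map_smul' := fun c g => by
            rw [show toA (n := n) (c • g) = c • toA g from hom_ext_top fun x => by
              simp [top_toA hn], LinearMap.map_smul_of_tower, map_smul, RingHom.id_apply] }
      refine ⟨(Module.evalEquiv R M).symm ξ, hom_ext_top (M := Module.Dual (Rn R n) M) fun f => ?_⟩
      have h1 : top (f ((Module.evalEquiv R M).symm ξ)) = ξ (top.comp (f.restrictScalars R)) := by
        have := LinearMap.congr_fun ((Module.evalEquiv R M).apply_symm_apply ξ) (top.comp (f.restrictScalars R))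
        rw [Module.evalEquiv_apply] at this
        exact this
      rw [Module.Dual.eval_apply, h1]
      show top (Φ (toA _)) = _
      rw [show toA (top.comp (f.restrictScalars R)) = f from hom_ext_top fun x => top_toA hn _ x]

end Modules

section Surj

theorem eq_bot_of_le_smul {A N : Type u} [CommRing A] [AddCommGroup N] [Module A N] {a : A} {k : ℕ} (ha : a ^ k = 0)
    {P : Submodule A N} (h : ∀ x ∈ P, ∃ y ∈ P, a • y = x) : P = ⊥ := by
  refine (Submodule.eq_bot_iff P).mpr fun x hx => ?_
  have : ∀ j, ∀ x ∈ P, ∃ y ∈ P, a ^ j • y = x := fun j => by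
    induction j with
    | zero => exact fun x hx => ⟨x, hx, by simp⟩
    | succ j ih =>
      intro x hx
      obtain ⟨y, hy, rfl⟩ := h x hx
      obtain ⟨w, hw, rfl⟩ := ih y hy
      exact ⟨w, hw, by rw [pow_succ', mul_smul]⟩
  obtain ⟨y, -, rfl⟩ := this k x hx
  rw [ha, zero_smul]

variable {M N : Type u} [AddCommGroup M] [Module (Rn R n) M] [AddCommGroup N] [Module (Rn R n) N]

theorem surjective_iff (φ : M →ₗ[Rn R n] N) :
    Function.Surjective φ ↔ ∀ v : N, ∃ u : M, v - φ u ∈ filt R n N 1 := by
  constructor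
  · intro h v
    obtain ⟨u, rfl⟩ := h v
    exact ⟨u, by simp⟩
  · intro h v
    have : ∀ j, ∀ v : N, ∃ u y, v = φ u + z R n ^ j • y := fun j => by
      induction j with
      | zero => exact fun v => ⟨0, v, by simp⟩
      | succ j ih =>
        intro v
        obtain ⟨u, y, rfl⟩ := ih v
        obtain ⟨u', hu'⟩ := h y
        obtain ⟨w, hw⟩ := hu'
        refine ⟨u + z R n ^ j • u', w, ?_⟩
        have hw' : z R n • w = y - φ u' := by simpa using hw
        rw [pow_succ, mul_smul, hw', map_add, map_smul, smul_sub]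
        abel
    obtain ⟨u, y, rfl⟩ := this n v
    exact ⟨u, by rw [z_pow_n_smul, add_zero]⟩

theorem injective_iff (φ : M →ₗ[Rn R n] N) :
    Function.Injective φ ↔ ∀ u : M, u ∈ filt2 R n M 1 → φ u = 0 → u = 0 := by
  refine ⟨fun h u _ hu => h (hu.trans (map_zero φ).symm), fun h => ?_⟩
  rw [← LinearMap.ker_eq_bot, LinearMap.ker_eq_bot']
  have : ∀ j u, z R n ^ j • u = 0 → φ u = 0 → u = 0 := fun j => by
    induction j with
    | zero => intro u hu _; simpa using hu
    | succ j ih =>
      intro u hu hφ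
      refine ih u ?_ hφ
      refine h _ ((Submodule.mem_torsionBy_iff _ _).mpr ?_) (by rw [map_smul, hφ, smul_zero])
      rw [smul_smul, pow_one, ← pow_succ']
      exact hu
  exact fun u hu => this n u (z_pow_n_smul u) hu

end Surj

section ExtGroups

variable [IsDomain R] [IsDiscreteValuationRing R] (hn : 1 ≤ n)

theorem exists_cover (M : Type u) [AddCommGroup M] [Module (Rn R n) M] [Module.Finite (Rn R n) M] :
    ∃ (r : ℕ) (f : (Fin r → Rn R n) →ₗ[Rn R n] M), Function.Surjective f ∧
      Module.Finite (Rn R n) ↥(LinearMap.ker f) ∧ Module.IsTorsionFree R ↥(LinearMap.ker f) := by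
  obtain ⟨r, f, hf⟩ := Module.Finite.exists_fin' (Rn R n) M
  refine ⟨r, f, hf, inferInstance, isTorsionFree_iff.mpr fun c x hx => ?_⟩
  rcases eq_or_ne c 0 with hc | hc
  · exact Or.inl hc
  refine Or.inr (Subtype.ext (funext fun i => ?_))
  haveI := tf_Rn (R := R) (n := n)
  exact (smul_eq_zero.mp (congrFun (congrArg Subtype.val hx) i)).resolve_left hc

theorem projective_free (r : ℕ) : Projective (ModuleCat.of (Rn R n) (Fin r → Rn R n)) :=
  (IsProjective.iff_projective (R := Rn R n) (Fin r → Rn R n)).mp inferInstance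

theorem ext_step {M : Type u} [AddCommGroup M] [Module (Rn R n) M] {r : ℕ} {f : (Fin r → Rn R n) →ₗ[Rn R n] M}
    (hf : Function.Surjective f) {Y : ModuleCat.{u} (Rn R n)} (i : ℕ)
    (x : Ext (ModuleCat.of (Rn R n) M) Y (i + 1)) :
    ∃ x₁ : Ext (ModuleCat.of (Rn R n) ↥(LinearMap.ker f)) Y i,
      (LinearMap.shortExact_shortComplexKer hf).extClass.comp x₁ (by omega) = x :=
  haveI := projective_free (R := R) (n := n) r
  Ext.contravariant_sequence_exact₃ (LinearMap.shortExact_shortComplexKer hf) Y x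
    (Ext.eq_zero_of_projective _) (by omega)

include hn in
theorem ext_one_eq_zero (M : Type u) [AddCommGroup M] [Module (Rn R n) M] [Module R M] [IsScalarTower R (Rn R n) M]
    [Module.Finite (Rn R n) M] [Module.IsTorsionFree R M]
    (x : Ext (ModuleCat.of (Rn R n) M) (ModuleCat.of (Rn R n) (Rn R n)) 1) : x = 0 := by
  obtain ⟨r, f, hf, -, -⟩ := exists_cover (R := R) (n := n) M
  obtain ⟨x₁, rfl⟩ := ext_step hf 0 x
  obtain ⟨φ, rfl⟩ := Ext.homEquiv₀.symm.surjective x₁
  obtain ⟨ψ, hψ⟩ := dual_restrict_surjective (R := R) hn (LinearMap.ker f).subtype f Subtype.val_injective hf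
    (LinearMap.exact_iff.mp (LinearMap.exact_subtype_ker_map f)).symm φ.hom
  have hφ : φ = f.shortComplexKer.f ≫ ModuleCat.ofHom ψ := ModuleCat.hom_ext hψ.symm
  show (LinearMap.shortExact_shortComplexKer hf).extClass.comp (Ext.mk₀ φ) _ = 0
  rw [hφ, ← Ext.mk₀_comp_mk₀, ShortComplex.ShortExact.extClass_comp_assoc]

include hn in
theorem ext_eq_zero : ∀ (i : ℕ) (M : Type u) [AddCommGroup M] [Module (Rn R n) M] [Module R M]
    [IsScalarTower R (Rn R n) M] [Module.Finite (Rn R n) M] [Module.IsTorsionFree R M]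
    (x : Ext (ModuleCat.of (Rn R n) M) (ModuleCat.of (Rn R n) (Rn R n)) (i + 1)), x = 0 := by
  intro i
  induction i with
  | zero => intro M _ _ _ _ _ _ x; exact ext_one_eq_zero hn M x
  | succ i ih =>
    intro M _ _ _ _ _ _ x
    obtain ⟨r, f, hf, h1, h2⟩ := exists_cover (R := R) (n := n) M
    obtain ⟨x₁, rfl⟩ := ext_step hf (i + 1) x
    haveI := h1
    haveI := h2
    rw [ih _ x₁, Ext.comp_zero]

include hn in
theorem ext_eq_zero_two (M : Type u) [AddCommGroup M] [Module (Rn R n) M] [Module.Finite (Rn R n) M] (i : ℕ)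
    (x : Ext (ModuleCat.of (Rn R n) M) (ModuleCat.of (Rn R n) (Rn R n)) (i + 2)) : x = 0 := by
  obtain ⟨r, f, hf, h1, h2⟩ := exists_cover (R := R) (n := n) M
  obtain ⟨x₁, rfl⟩ := ext_step hf (i + 1) x
  haveI := h1
  haveI := h2
  rw [ext_eq_zero hn i _ x₁, Ext.comp_zero]

include hn in
theorem tf_of_ext_one (M : Type u) [AddCommGroup M] [Module (Rn R n) M] [Module R M] [IsScalarTower R (Rn R n) M]
    [Module.Finite (Rn R n) M]
    (h : Subsingleton (Ext (ModuleCat.of (Rn R n) M) (ModuleCat.of (Rn R n) (Rn R n)) 1)) :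
    Module.IsTorsionFree R M := by
  classical
  obtain ⟨r, f, hf, -, htf⟩ := exists_cover (R := R) (n := n) M
  haveI := htf
  haveI : Module.Finite R (Fin r → Rn R n) := inferInstance
  haveI : IsNoetherian R (Fin r → Rn R n) := isNoetherian_of_isNoetherianRing_of_finite R _
  haveI : Module.Finite R ↥(LinearMap.ker f) :=
    Module.Finite.of_injective ((LinearMap.ker f).subtype.restrictScalars R) Subtype.val_injective
  haveI : Module.Free R ↥(LinearMap.ker f) := Module.free_of_finite_type_torsion_free'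
  let b := Module.Free.chooseBasis R ↥(LinearMap.ker f)
  have hext : ∀ j, ∃ ψ : (Fin r → Rn R n) →ₗ[Rn R n] Rn R n, ψ.comp (LinearMap.ker f).subtype = toA (b.coord j) := by
    intro j
    obtain ⟨x₂, hx₂⟩ := Ext.contravariant_sequence_exact₁ (LinearMap.shortExact_shortComplexKer hf)
      (ModuleCat.of (Rn R n) (Rn R n)) (n₁ := 1)
      (Ext.mk₀ (ModuleCat.ofHom (toA (b.coord j)) : ModuleCat.of (Rn R n) ↥(LinearMap.ker f) ⟶ ModuleCat.of (Rn R n) (Rn R n)))
      rfl (Subsingleton.elim (h := h) _ _)
    obtain ⟨ψ, rfl⟩ := Ext.homEquiv₀.symm.surjective x₂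
    refine ⟨ψ.hom, ?_⟩
    have := hx₂
    change (Ext.mk₀ f.shortComplexKer.f).comp (Ext.mk₀ ψ) _ = _ at this
    rw [Ext.mk₀_comp_mk₀] at this
    exact congrArg ModuleCat.Hom.hom ((Ext.mk₀_bijective _ _).1 this)
  choose ψ hψ using hext
  let p : (Fin r → Rn R n) →ₗ[R] ↥(LinearMap.ker f) :=
    ∑ j, (LinearMap.toSpanSingleton R _ (b j)).comp (top.comp ((ψ j).restrictScalars R))
  have hp : ∀ k : ↥(LinearMap.ker f), p k.1 = k := fun k => by
    simp only [p, LinearMap.coe_sum, Finset.sum_apply, LinearMap.comp_apply, LinearMap.coe_restrictScalars,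
      LinearMap.toSpanSingleton_apply]
    conv_rhs => rw [← b.sum_repr k]
    refine Finset.sum_congr rfl fun j _ => ?_
    rw [show ψ j k.1 = toA (b.coord j) k from LinearMap.congr_fun (hψ j) k, top_toA hn, Module.Basis.coord_apply]
  refine isTorsionFree_iff.mpr fun c m hm => ?_
  rcases eq_or_ne c 0 with hc | hc
  · exact Or.inl hc
  refine Or.inr ?_
  obtain ⟨v, rfl⟩ := hf m
  rw [← LinearMap.map_smul_of_tower] at hm
  have h1 := hp ⟨c • v, hm⟩
  rw [map_smul] at h1
  have h2 : c • ((p v : Fin r → Rn R n) - v) = 0 := by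
    rw [smul_sub, sub_eq_zero]
    exact congrArg Subtype.val h1
  haveI := tf_Rn (R := R) (n := n)
  have h3 : (p v : Fin r → Rn R n) = v := funext fun i =>
    sub_eq_zero.mp ((smul_eq_zero.mp (congrFun h2 i)).resolve_left hc)
  rw [← h3]
  exact LinearMap.mem_ker.mp (p v).2

include hn in
theorem exists_factor (M : Type u) [AddCommGroup M] [Module (Rn R n) M] [Module R M] [IsScalarTower R (Rn R n) M]
    [Module.Finite (Rn R n) M] [Module.IsTorsionFree R M] :
    ∃ (P : ModuleCat.{u} (Rn R n)) (_ : Projective P) (ι : ModuleCat.of (Rn R n) M ⟶ P) (μ : P ⟶ ModuleCat.of (Rn R n) M),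
      ι ≫ μ = (z R n ^ (n - 1)) • 𝟙 (ModuleCat.of (Rn R n) M) := by
  classical
  haveI := finite_R (R := R) (n := n) (M := M)
  haveI : Module.Free R M := Module.free_of_finite_type_torsion_free'
  let Q := (filt2 R n M (n - 1)).restrictScalars R
  haveI : Module.IsTorsionFree R (M ⧸ Q) := isTorsionFree_iff.mpr fun c x hx => by
    obtain ⟨v, rfl⟩ := Submodule.Quotient.mk_surjective _ x
    rw [← Submodule.Quotient.mk_smul, Submodule.Quotient.mk_eq_zero, Submodule.restrictScalars_mem, filt2_mem,
      smul_comm] at hx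
    refine (smul_eq_zero.mp hx).imp_right fun h => ?_
    rw [Submodule.Quotient.mk_eq_zero, Submodule.restrictScalars_mem, filt2_mem]
    exact h
  haveI : Module.Free R (M ⧸ Q) := Module.free_of_finite_type_torsion_free'
  obtain ⟨s, hs⟩ := Module.projective_lifting_property Q.mkQ LinearMap.id (Submodule.mkQ_surjective Q)
  let φ : M →ₗ[R] M := s.comp Q.mkQ
  have hφQ : ∀ x ∈ filt2 R n M (n - 1), φ x = 0 := fun x hx => by
    show s (Submodule.Quotient.mk x) = 0
    rw [(Submodule.Quotient.mk_eq_zero Q).mpr hx, map_zero]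
  have hφtop : ∀ x, z R n ^ (n - 1) • φ x = z R n ^ (n - 1) • x := fun x => by
    have h : Q.mkQ (φ x - x) = 0 := by
      rw [map_sub, show Q.mkQ (φ x) = Q.mkQ x from LinearMap.congr_fun hs (Q.mkQ x), sub_self]
    rw [← sub_eq_zero, ← smul_sub]
    exact filt2_mem.mp ((Submodule.Quotient.mk_eq_zero Q).mp h)
  let ι₀ : M →ₗ[R] TensorProduct R (Rn R n) M :=
    ∑ j ∈ Finset.range n, (TensorProduct.mk R (Rn R n) M (z R n ^ j)).comp
      (φ.comp ((LinearMap.lsmul (Rn R n) M (z R n ^ (n - 1 - j))).restrictScalars R))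
  have hι₀ : ∀ m, ι₀ m = ∑ j ∈ Finset.range n, (z R n ^ j) ⊗ₜ[R] φ (z R n ^ (n - 1 - j) • m) := fun m => by
    simp [ι₀]
  have hιz : ∀ m, ι₀ (z R n • m) = z R n • ι₀ m := fun m => by
    rw [hι₀, hι₀, Finset.smul_sum]
    refine Eq.trans ?_ (((casimir (n := n) (fun j => (z R n ^ j) ⊗ₜ[R] φ (z R n ^ (n - j) • m)) ?_ ?_).symm).trans ?_)
    · refine Finset.sum_congr rfl fun j hj => ?_
      rw [smul_smul, ← pow_succ, show n - 1 - j + 1 = n - j by have := Finset.mem_range.mp hj; omega]
    · rw [Nat.sub_zero, z_pow_n_smul, map_zero, TensorProduct.tmul_zero]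
    · rw [z_pow_n, TensorProduct.zero_tmul]
    · refine Finset.sum_congr rfl fun j _ => ?_
      rw [TensorProduct.smul_tmul', smul_eq_mul, ← pow_succ', show n - (j + 1) = n - 1 - j by omega]
  let ι : M →ₗ[Rn R n] TensorProduct R (Rn R n) M :=
    { toFun := ι₀, map_add' := map_add ι₀, map_smul' := map_smul_of_comm ι₀ hιz }
  refine ⟨ModuleCat.of (Rn R n) (TensorProduct R (Rn R n) M), (IsProjective.iff_projective (R := Rn R n) _).mp inferInstance,
    ModuleCat.ofHom ι, ModuleCat.ofHom (LinearMap.liftBaseChange (Rn R n) (LinearMap.id : M →ₗ[R] M)),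
    ModuleCat.hom_ext (LinearMap.ext fun m => ?_)⟩
  show LinearMap.liftBaseChange (Rn R n) (LinearMap.id : M →ₗ[R] M) (ι₀ m) = z R n ^ (n - 1) • m
  rw [hι₀, map_sum, Finset.sum_eq_single (n - 1)]
  · rw [LinearMap.liftBaseChange_tmul, LinearMap.id_apply, Nat.sub_self, pow_zero, one_smul, hφtop]
  · intro j hj hne
    have hj' := Finset.mem_range.mp hj
    rw [LinearMap.liftBaseChange_tmul, LinearMap.id_apply,
      hφQ _ (filt2_mem.mpr (by rw [smul_smul, ← pow_add]; exact z_pow_smul (by omega) _)), smul_zero]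
  · intro h; exact absurd (Finset.mem_range.mpr (by omega)) h

include hn in
theorem pow_smul_ext_eq_zero (M : Type u) [AddCommGroup M] [Module (Rn R n) M] [Module R M]
    [IsScalarTower R (Rn R n) M] [Module.Finite (Rn R n) M] [Module.IsTorsionFree R M]
    (Y : ModuleCat.{u} (Rn R n)) (i : ℕ) (x : Ext (ModuleCat.of (Rn R n) M) Y (i + 1)) :
    (z R n ^ (n - 1)) • x = 0 := by
  obtain ⟨P, hP, ι, μ, h⟩ := exists_factor (R := R) hn M
  haveI := hP
  calc (z R n ^ (n - 1)) • x = (z R n ^ (n - 1)) • (Ext.mk₀ (𝟙 _)).comp x (zero_add _) := by rw [Ext.mk₀_id_comp]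
    _ = (Ext.mk₀ (ι ≫ μ)).comp x (zero_add _) := by
      rw [h]
      exact ((Ext.smul_comp _ x (zero_add _) (z R n ^ (n - 1))).symm.trans (congrArg (fun e => Ext.comp e x (zero_add _)) (Ext.mk₀_smul _ _).symm))
    _ = 0 := by
      rw [← Ext.mk₀_comp_mk₀, Ext.comp_assoc_of_second_deg_zero, Ext.eq_zero_of_projective ((Ext.mk₀ μ).comp x _),
        Ext.comp_zero]

include hn in
theorem pow_smul_ext_two (M : Type u) [AddCommGroup M] [Module (Rn R n) M] [Module.Finite (Rn R n) M]
    (Y : ModuleCat.{u} (Rn R n)) (i : ℕ) (x : Ext (ModuleCat.of (Rn R n) M) Y (i + 2)) :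
    (z R n ^ (n - 1)) • x = 0 := by
  obtain ⟨r, f, hf, h1, h2⟩ := exists_cover (R := R) (n := n) M
  obtain ⟨x₁, rfl⟩ := ext_step hf (i + 1) x
  haveI := h1
  haveI := h2
  rw [← Ext.comp_smul, pow_smul_ext_eq_zero hn _ _ i x₁, Ext.comp_zero]

end ExtGroups

section QuasiFree

/-- Multiplication by `z ^ b` on `Oi a`. -/
noncomputable def mulZ {a : ℕ} (b : ℕ) (h : n ≤ a + b) : Oi R n a →ₗ[Rn R n] Rn R n :=
  Submodule.liftQ _ (LinearMap.mulLeft (Rn R n) (z R n ^ b)) fun x hx => by
    obtain ⟨y, rfl⟩ := Ideal.mem_span_singleton'.mp hx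
    rw [LinearMap.mem_ker, LinearMap.mulLeft_apply, mul_left_comm, ← pow_add, z_pow_eq_zero (by omega), mul_zero]

theorem mulZ_mk {a b : ℕ} (h : n ≤ a + b) (x : Rn R n) :
    mulZ b h (Ideal.Quotient.mk (Ideal.span {z R n ^ a}) x) = z R n ^ b * x := rfl

theorem mulZ_injective [IsDomain R] {a b : ℕ} (h : a + b = n) : Function.Injective (mulZ (R := R) (n := n) (a := a) b h.ge) := by
  rw [← LinearMap.ker_eq_bot, LinearMap.ker_eq_bot']
  intro q hq
  obtain ⟨x, rfl⟩ := Ideal.Quotient.mk_surjective q
  rw [mulZ_mk] at hq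
  obtain ⟨p, rfl⟩ := Ideal.Quotient.mk_surjective x
  rw [← map_pow, ← map_mul, Ideal.Quotient.eq_zero_iff_mem, Ideal.mem_span_singleton] at hq
  rw [Ideal.Quotient.eq_zero_iff_mem, Ideal.mem_span_singleton, ← map_pow]
  refine map_dvd _ ?_
  rw [show (X : R[X]) ^ n = X ^ b * X ^ a by rw [← pow_add, add_comm, h]] at hq
  exact (mul_dvd_mul_iff_left (pow_ne_zero b Polynomial.X_ne_zero)).mp hq

theorem ker_isQuasiFree [IsDomain R] (hn : 1 ≤ n) (m : Fin n → ℕ) (M : Type u) [AddCommGroup M] [Module (Rn R n) M]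
    (hM : IsQuasiFreeOfType R n M m) (r : ℕ) (φ : (Fin r → Rn R n) →ₗ[Rn R n] M) (hφ : Function.Surjective φ)
    (hφz : ∀ f : Fin r → Rn R n, φ f ∈ filt R n M 1 → f ∈ filt R n (Fin r → Rn R n) 1) :
    IsQuasiFreeOfType R n ↥(LinearMap.ker φ) (revType n m) := by
  classical
  obtain ⟨e⟩ := hM
  let e' : M ≃ₗ[Rn R n] ((i : Fin n) → (Fin (m i) → Oi R n (i.1 + 1))) := e.trans (QFModel.equivPi R n m)
  let std : ((i : Fin n) → Fin (m i) → Rn R n) →ₗ[Rn R n] ((i : Fin n) → (Fin (m i) → Oi R n (i.1 + 1))) :=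
    LinearMap.pi fun i => LinearMap.pi fun j =>
      (Submodule.mkQ (Ideal.span {z R n ^ (i.1 + 1)})).comp ((LinearMap.proj (φ := fun _ : Fin (m i) => Rn R n) j).comp
        (LinearMap.proj (φ := fun i : Fin n => Fin (m i) → Rn R n) i))
  have hstd : Function.Surjective std := fun w => by
    choose v hv using fun i j => Ideal.Quotient.mk_surjective (w i j)
    exact ⟨v, funext fun i => funext fun j => hv i j⟩
  obtain ⟨ψ, hψ⟩ := Module.projective_lifting_property std (e'.toLinearMap.comp φ) hstd
  have hψ' : ∀ v, std (ψ v) = e' (φ v) := fun v => LinearMap.congr_fun hψ v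
  have hψs : Function.Surjective ψ := (surjective_iff ψ).mpr fun v => by
    obtain ⟨u, hu⟩ := hφ (e'.symm (std v))
    refine ⟨u, ?_⟩
    have h0 : std (v - ψ u) = 0 := by
      rw [map_sub, hψ', hu, LinearEquiv.apply_symm_apply]
      exact sub_self (std v)
    have : ∀ i j, ∃ y, z R n ^ (i.1 + 1) * y = (v - ψ u) i j := fun i j => by
      obtain ⟨y, hy⟩ := Ideal.mem_span_singleton'.mp (Ideal.Quotient.eq_zero_iff_mem.mp (congrFun (congrFun h0 i) j))
      exact ⟨y, by rw [mul_comm]; exact hy⟩
    choose y hy using this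
    refine ⟨fun i j => z R n ^ i.1 * y i j, funext fun i => funext fun j => ?_⟩
    show z R n ^ 1 * (z R n ^ i.1 * y i j) = (v - ψ u) i j
    rw [← mul_assoc, ← pow_add, add_comm, hy]
  obtain ⟨s, hs⟩ := Module.projective_lifting_property ψ LinearMap.id hψs
  have hψi : Function.Injective ψ := by
    rw [← LinearMap.ker_eq_bot]
    refine eq_bot_of_le_smul (z_pow_n (R := R) (n := n)) fun k hk => ?_
    have hφk : φ k = 0 := e'.injective (by rw [← hψ', LinearMap.mem_ker.mp hk, map_zero, map_zero])
    obtain ⟨g, hg⟩ := hφz k (hφk ▸ zero_mem _)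
    have hg' : z R n • g = k := by simpa using hg
    refine ⟨g - s (ψ g), LinearMap.mem_ker.mpr (by
      rw [map_sub, show ψ (s (ψ g)) = ψ g from LinearMap.congr_fun hs (ψ g), sub_self]), ?_⟩
    rw [smul_sub, hg', ← map_smul, ← map_smul, hg', LinearMap.mem_ker.mp hk, map_zero, sub_zero]
  have hker : ∀ v, v ∈ LinearMap.ker φ ↔ ψ v ∈ LinearMap.ker std := fun v => by
    rw [LinearMap.mem_ker, LinearMap.mem_ker, hψ', LinearEquiv.map_eq_zero_iff]
  let eK : ↥(LinearMap.ker φ) ≃ₗ[Rn R n] ↥(LinearMap.ker std) :=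
    LinearEquiv.ofBijective ((ψ.comp (LinearMap.ker φ).subtype).codRestrict _ fun v => (hker v.1).mp v.2)
      ⟨fun a b h => Subtype.ext (hψi (congrArg Subtype.val h)), fun w => by
        obtain ⟨v, hv⟩ := hψs w.1
        exact ⟨⟨v, (hker v).mpr (hv ▸ w.2)⟩, Subtype.ext hv⟩⟩
  have hcast : ∀ (i : Fin n) (h : i.1 + 1 < n), m i = revType n m ⟨n - 2 - i.1, by omega⟩ := fun i h => by
    rw [revType, dif_pos (show n - 2 - i.1 + 1 < n by omega)]
    congr 1
    exact Fin.ext (by simp only; omega)
  let Λ : ((i : Fin n) → (Fin (revType n m i) → Oi R n (i.1 + 1))) →ₗ[Rn R n] ((i : Fin n) → Fin (m i) → Rn R n) :=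
    LinearMap.pi fun i => LinearMap.pi fun j =>
      if h : i.1 + 1 < n then
        (mulZ (a := n - 2 - i.1 + 1) (i.1 + 1) (by omega)).comp
          ((LinearMap.proj (R := Rn R n) (φ := fun _ => Oi R n (n - 2 - i.1 + 1)) (Fin.cast (hcast i h) j)).comp
            (LinearMap.proj (R := Rn R n) (φ := fun i : Fin n => Fin (revType n m i) → Oi R n (i.1 + 1))
              (⟨n - 2 - i.1, by omega⟩ : Fin n)))
      else 0
  have hΛmem : ∀ w, Λ w ∈ LinearMap.ker std := fun w => by
    rw [LinearMap.mem_ker]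
    funext i j
    show Ideal.Quotient.mk _ (Λ w i j) = 0
    rw [Ideal.Quotient.eq_zero_iff_mem, Ideal.mem_span_singleton]
    simp only [Λ, LinearMap.pi_apply]
    split_ifs with h
    · simp only [LinearMap.comp_apply]
      obtain ⟨x, hx⟩ := Ideal.Quotient.mk_surjective
        ((LinearMap.proj (R := Rn R n) (φ := fun _ => Oi R n (n - 2 - i.1 + 1)) (Fin.cast (hcast i h) j))
          ((LinearMap.proj (R := Rn R n) (φ := fun i : Fin n => Fin (revType n m i) → Oi R n (i.1 + 1))
            (⟨n - 2 - i.1, by omega⟩ : Fin n)) w))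
      rw [← hx, mulZ_mk]
      exact dvd_mul_right _ _
    · exact dvd_zero _
  have hcast' : ∀ (i' : Fin n) (j' : Fin (revType n m i')), i'.1 + 1 < n := fun i' j' => by
    by_contra h
    have := j'.2
    simp [revType, h] at this
  have key : ∀ (v : (i : Fin n) → Fin (m i) → Rn R n) (a b : Fin n) (x : Fin (m a)) (y : Fin (m b)),
      a = b → x.val = y.val → v a x = v b y := by
    rintro v a b x y rfl hxy
    rw [Fin.ext hxy]
  have hΛs : Function.Surjective (Λ.codRestrict _ hΛmem) := by
    rintro ⟨v, hv⟩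
    have hvy : ∀ i j, ∃ y, z R n ^ (i.1 + 1) * y = v i j := fun i j => by
      obtain ⟨y, hy⟩ := Ideal.mem_span_singleton'.mp (Ideal.Quotient.eq_zero_iff_mem.mp
        (congrFun (congrFun (LinearMap.mem_ker.mp hv) i) j))
      exact ⟨y, by rw [mul_comm]; exact hy⟩
    choose y hy using hvy
    refine ⟨fun i' j' => Ideal.Quotient.mk _ (y ⟨n - 2 - i'.1, by omega⟩
      (Fin.cast (by rw [revType, dif_pos (hcast' i' j')]) j')), Subtype.ext (funext fun i => funext fun j => ?_)⟩
    simp only [LinearMap.codRestrict_apply, Λ, LinearMap.pi_apply]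
    split_ifs with h
    · simp only [LinearMap.comp_apply, LinearMap.proj_apply, mulZ_mk]
      show z R n ^ (i.1 + 1) * _ = v i j
      have hidx : (⟨n - 2 - (n - 2 - i.1), by omega⟩ : Fin n) = i := Fin.ext (by simp only; omega)
      rw [show z R n ^ (i.1 + 1) = z R n ^ ((⟨n - 2 - (n - 2 - i.1), by omega⟩ : Fin n).1 + 1) by rw [hidx], hy]
      exact key v _ _ _ _ hidx rfl
    · simp only [LinearMap.zero_apply]
      rw [← hy, z_pow_eq_zero (by omega), zero_mul]
  have hΛi : Function.Injective (Λ.codRestrict _ hΛmem) := by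
    intro w w' hw
    funext i' j'
    have hi' := hcast' i' j'
    have h := congrFun (congrFun (congrArg Subtype.val hw) ⟨n - 2 - i'.1, by omega⟩)
      (Fin.cast (by rw [revType, dif_pos hi']) j')
    simp only [LinearMap.codRestrict_apply, Λ, LinearMap.pi_apply] at h
    simp only [dif_pos (show (⟨n - 2 - i'.1, by omega⟩ : Fin n).1 + 1 < n by simp only; omega)] at h
    have key' : ∀ (a b : Fin n) (x : Fin (revType n m a)) (y : Fin (revType n m b)), a = b → x.val = y.val →
        w a x = w' a x → w b y = w' b y := by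
      rintro a b x y rfl hxy h0
      rwa [← Fin.ext hxy]
    refine key' ⟨n - 2 - (n - 2 - i'.1), by omega⟩ i'
      (Fin.cast (hcast ⟨n - 2 - i'.1, by omega⟩ (by simp only; omega)) (Fin.cast (by rw [revType, dif_pos hi']) j'))
      j' (Fin.ext (by simp only; omega)) rfl ?_
    exact mulZ_injective (by first | omega | (simp only; omega)) h
  exact ⟨eK.trans ((LinearEquiv.ofBijective _ ⟨hΛi, hΛs⟩).symm.trans (QFModel.equivPi R n (revType n m)).symm)⟩

end QuasiFree

end Groth.Agent.MultCrvLib
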